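import Cfsg.Agent.Nodes.WittInst

/-!
# The standard flags of type `D_{n+2}` (S4884, row oplus, block F-D)

* `Qp n F` : the hyperbolic form of rank `n + 2`, `Fr n F` its standard frame (`b (i, true) = e_i`, `b (i, false) = f_i`);
* `zz s i` : the signed index `(i, true)`, but `(n + 1, s)` for the last one;
* `std s k` : the span of `b (zz s i)`, `i < k`;
* `AdmQ U`  : `U` is totally singular.
-/

set_option autoImplicit false

namespace Cfsg.Agent.H478.CC

open Cfsg Cfsg.Agent.LieClassical Cfsg.Agent.LieClassical.OrthForms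
open Cfsg.Agent.TitsThree.KSideO Cfsg.Agent.TitsThree.WBridge Cfsg.Agent.TitsThree.WittFrame Cfsg.Agent.Nodes.WittInst

variable (n : ℕ) (F : Type*) [Field F]

/-- the hyperbolic form -/
abbrev Qp : QuadraticForm F (Fin (n + 2) ⊕ Fin (n + 2) → F) := plusForm (n + 2) F

/-- its standard frame -/
abbrev Fr : Frame (HO (Qp n F)) (Fin (n + 2)) := toFrame (wplus (n + 2) F)

variable {n F}

/-- the signed indices of the two standard flags -/
def zz (s : Bool) (i : Fin (n + 2)) : Fin (n + 2) × Bool := (i, if i = Fin.last (n + 1) then s else true)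

/-- the standard totally singular subspaces -/
def std (s : Bool) (k : ℕ) : Submodule F (Fin (n + 2) ⊕ Fin (n + 2) → F) :=
  Submodule.span F ((fun i => (Fr n F).b (zz s i)) '' {i : Fin (n + 2) | (i : ℕ) < k})

/-- totally singular subspaces -/
def AdmQ (U : Submodule F (Fin (n + 2) ⊕ Fin (n + 2) → F)) : Prop := ∀ u ∈ U, Qp n F u = 0

end Cfsg.Agent.H478.CC
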