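import Cfsg.Agent.H478.CC.Count
import Cfsg.Agent.H556.FD.Stab
import Cfsg.Agent.H556.FD.Disj
import Cfsg.Agent.H560.CC.TransD

/-!
# The flags of `PΩ⁺_{2(n+2)}` (S4884, row oplus, block F-D)

`flags_D` : the structure `Flags` for the two families of totally singular flags of the hyperbolic form; stabilizers:
and disjointness: helper556; transitivity: helper560; count: `H478/CC/Count.lean`.
-/

set_option autoImplicit false

namespace Cfsg.Agent.H478.CC

open Cfsg Cfsg.Agent.LieClassical Cfsg.Agent.LieClassical.OrthForms QuadraticMap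
open Cfsg.Agent.LieClassical.OrthCore Cfsg.Agent.LieClassical.OrthTrans
open Cfsg.Agent.LieClassical.OrthSimple Cfsg.Agent.LieClassical.OrthFinite
open Cfsg.Agent.ChevalleyStructure.CoxeterGeom
open Cfsg.Agent.TitsThree Cfsg.Agent.TitsThree.KSideO Cfsg.Agent.TitsThree.WBridge Cfsg.Agent.TitsThree.WittFrame
open Cfsg.Agent.TitsThree.Siegel Cfsg.Agent.TitsThree.SiegelGen Cfsg.Agent.TitsThree.WittWeyl
open Cfsg.Agent.Nodes.WittInst Cfsg.Agent.Nodes.WittRoot Cfsg.Agent.Nodes.BNOf Cfsg.Agent.Nodes.LeviDec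
open Cfsg.Agent.Nodes.TypeD
open Cfsg.Agent.Nodes.WittRGD (Tor)
open Cfsg.Agent.H439.CC
open scoped Classical

variable {F : Type*} [Field F] {n : ℕ}

theorem std_eq_F (s : Bool) (k : ℕ) :
    (std s k : Submodule F (Fin (n + 2) ⊕ Fin (n + 2) → F)) = H556.FD.stdF (Fr n F) s k := by
  unfold std H556.FD.stdF
  congr 1
  have h : ∀ i : Fin (n + 2), zz s i = (i, H556.FD.sj s i) := by
    intro i
    unfold zz H556.FD.sj
    congr 2
    exact propext ⟨fun h => by rw [h]; rfl, fun h => Fin.ext h⟩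
  ext v
  constructor
  · rintro ⟨i, hi, rfl⟩
    exact ⟨zz s i, ⟨hi, by rw [h i]⟩, rfl⟩
  · rintro ⟨⟨i, t⟩, ⟨h1, h2⟩, rfl⟩
    refine ⟨i, h1, ?_⟩
    simp only at h2 ⊢
    rw [h i, h2]

theorem std_mono (s : Bool) {k l : ℕ} (h : k ≤ l) :
    (std s k : Submodule F (Fin (n + 2) ⊕ Fin (n + 2) → F)) ≤ std s l :=
  Submodule.span_mono (Set.image_mono fun _ hi => lt_of_lt_of_le hi h)

/-- the standard chain -/
noncomputable def sig (n : ℕ) (F : Type*) [Field F] (K : Finset ℕ) (s : Bool) :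
    Finset (Submodule F (Fin (n + 2) ⊕ Fin (n + 2) → F)) := K.image fun k => std s k

theorem mem_sig {K : Finset ℕ} {s : Bool} {U : Submodule F (Fin (n + 2) ⊕ Fin (n + 2) → F)} :
    U ∈ sig n F K s ↔ ∃ k ∈ K, std s k = U := Finset.mem_image

theorem ch_sig {K : Finset ℕ} (hK : K ⊆ Finset.Icc 1 (n + 2)) (s : Bool) : Ch AdmQ K (sig n F K s) := by
  have hK' : ∀ k ∈ K, 1 ≤ k ∧ k ≤ n + 2 := fun k hk => Finset.mem_Icc.1 (hK hk)
  refine ⟨?_, ?_, ?_⟩
  · intro U hU U' hU' _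
    obtain ⟨k, _, rfl⟩ := mem_sig.1 hU
    obtain ⟨l, _, rfl⟩ := mem_sig.1 hU'
    rcases le_total k l with h | h
    · exact Or.inl (std_mono s h)
    · exact Or.inr (std_mono s h)
  · intro U hU
    obtain ⟨k, hk, rfl⟩ := mem_sig.1 hU
    refine ⟨H560.CC.admQ_std s k, bot_lt_iff_ne_bot.2 fun h => ?_⟩
    have h1 := H560.CC.finrank_std (F := F) s (hK' k hk).2
    rw [h, finrank_bot] at h1
    have := (hK' k hk).1
    omega
  · rw [sig, Finset.image_image]
    conv_rhs => rw [← Finset.image_id (s := K)]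
    exact Finset.image_congr fun k hk => H560.CC.finrank_std s (hK' k hk).2

/-- **(F) for `PΩ⁺_{2(n+2)}`** (`hd`: the two families are disjoint) -/
theorem flags_D_of [Finite F] (hG : Good (Qp n F)) {p : ℕ} [Fact p.Prime] [CharP F p] {G : Type*} [Group G]
    (cs : CoxeterSystem (M n) G)
    (hd : ∀ g ∈ E (Qp n F), (H556.FD.stdF (Fr n F) true (n + 2)).map
      (g : (Fin (n + 2) ⊕ Fin (n + 2) → F) →ₗ[F] (Fin (n + 2) ⊕ Fin (n + 2) → F)) ≠
        H556.FD.stdF (Fr n F) false (n + 2)) :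
    Flags (AdmQ (n := n) (F := F)) (E (Qp n F)).subtype (toPOmega hG) (n + 2)
      (fun K j => PJ cs (isCartan n) (((Tor (Fr n F) (E (Qp n F))).subgroupOf (E (Qp n F))).map (toPOmega hG))
        (XD (wplus (n + 2) F) (toPOmega hG)) (JD K j)) := by
  have hfin : Finite (Cfsg.POmega F ⇑(Qp n F)) := by
    have : Finite ((Fin (n + 2) ⊕ Fin (n + 2) → F) ≃ₗ[F] (Fin (n + 2) ⊕ Fin (n + 2) → F)) :=
      Finite.of_injective (fun g : (Fin (n + 2) ⊕ Fin (n + 2) → F) ≃ₗ[F] (Fin (n + 2) ⊕ Fin (n + 2) → F) =>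
        (g : (Fin (n + 2) ⊕ Fin (n + 2) → F) → (Fin (n + 2) ⊕ Fin (n + 2) → F))) DFunLike.coe_injective
    exact Finite.of_surjective _ (toPOmega_surjective hG)
  refine flags_of_orbits (fun u hu => by rw [(Submodule.mem_bot F).1 hu, QuadraticMap.map_zero])
    (fun U U' h h' u hu => h' u (h hu)) ?_ (toPOmega_surjective hG) (ker_toPOmega hG) _ (fun K j => sig n F K j)
    (fun K hK _ j => ch_sig hK j) ?_ ?_ ?_
  · rintro g U hU _ ⟨u, hu, rfl⟩
    exact (mem_O.1 (E_le_O g.2) u).trans (hU u hu)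
  · intro K hK hN j g
    rw [H556.FD.mem_PJ_iff (wplus (n + 2) F) hG (amb_plus (n + 2)) (adm_plus (n + 2)) (p := p) cs hK hN j g]
    constructor
    · intro h U hU
      obtain ⟨k, hk, rfl⟩ := mem_sig.1 hU
      rw [std_eq_F]
      exact h k hk
    · intro h k hk
      have h1 := h _ (mem_sig.2 ⟨k, hk, rfl⟩)
      rw [std_eq_F] at h1
      exact h1
  · intro K hK hN c hc
    have hN' : ∃ U ∈ c, Module.finrank F U = n + 2 := by
      have h1 := hc.2.2
      rw [← h1] at hN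
      obtain ⟨U, hU, e⟩ := Finset.mem_image.1 hN
      exact ⟨U, hU, e⟩
    obtain ⟨g, hg, s, h⟩ := H560.CC.exists_std hG c hc.1 (fun U hU => (hc.2.1 U hU).1) hN'
    refine ⟨⟨g⁻¹, inv_mem hg⟩, s, ?_⟩
    have h2 : im g c = sig n F K s := by
      ext U
      rw [mem_im, mem_sig]
      constructor
      · rintro ⟨U', hU', rfl⟩
        refine ⟨Module.finrank F U', ?_, (h U' hU').symm⟩
        rw [← hc.2.2]
        exact Finset.mem_image_of_mem _ hU'
      · rintro ⟨k, hk, rfl⟩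
        rw [← hc.2.2] at hk
        obtain ⟨U', hU', e⟩ := Finset.mem_image.1 hk
        exact ⟨U', hU', by rw [h U' hU', e]⟩
    show c = im g⁻¹ (sig n F K s)
    rw [← h2, ← im_mul, inv_mul_cancel, im_one]
  · intro K hK hN j j' g hjj
    have hfr : ∀ s : Bool, Module.finrank F (std s (n + 2) : Submodule F (Fin (n + 2) ⊕ Fin (n + 2) → F)) = n + 2 :=
      fun s => H560.CC.finrank_std s le_rfl
    have h1 : (std j (n + 2) : Submodule F (Fin (n + 2) ⊕ Fin (n + 2) → F)).map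
        (g.1 : (Fin (n + 2) ⊕ Fin (n + 2) → F) →ₗ[F] (Fin (n + 2) ⊕ Fin (n + 2) → F)) = std j' (n + 2) := by
      have h2 : (std j (n + 2) : Submodule F (Fin (n + 2) ⊕ Fin (n + 2) → F)).map
        (g.1 : (Fin (n + 2) ⊕ Fin (n + 2) → F) →ₗ[F] (Fin (n + 2) ⊕ Fin (n + 2) → F)) ∈ sig n F K j' := by
        rw [hjj]
        exact mem_im.2 ⟨_, mem_sig.2 ⟨n + 2, hN, rfl⟩, rfl⟩
      exact (ch_sig hK j').eq_of_finrank h2 (mem_sig.2 ⟨n + 2, hN, rfl⟩)
        ((LinearEquiv.finrank_map_eq g.1 _).trans ((hfr j).trans (hfr j').symm))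
    rw [std_eq_F, std_eq_F] at h1
    cases j <;> cases j'
    · rfl
    · exfalso
      have h2 := map_eq_iff.1 h1
      exact hd g.1⁻¹ (inv_mem g.2) h2.symm
    · exact absurd h1 (hd g.1 g.2)
    · rfl

/-- **(F) for `PΩ⁺_{2(n+2)}`** -/
theorem flags_D [Finite F] (hG : Good (Qp n F)) {p : ℕ} [Fact p.Prime] [CharP F p]
    {G : Type*} [Group G] (cs : CoxeterSystem (M n) G) :
    Flags (AdmQ (n := n) (F := F)) (E (Qp n F)).subtype (toPOmega hG) (n + 2)
      (fun K j => PJ cs (isCartan n) (((Tor (Fr n F) (E (Qp n F))).subgroupOf (E (Qp n F))).map (toPOmega hG))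
        (XD (wplus (n + 2) F) (toPOmega hG)) (JD K j)) :=
  flags_D_of hG (p := p) cs fun _ hg => H556.FD.stdF_ne (wplus (n + 2) F) (nondeg_plusForm (n + 2) F)
    (adm_plus (n + 2)) hg

end Cfsg.Agent.H478.CC
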