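import Cfsg.Agent.H439.CC.Row
import Cfsg.Agent.H478.CC.FlagsD
import Cfsg.Agent.H549.DB.DofB
import Cfsg.Agent.H215.WB.WFin
import Cfsg.Agent.H493.CC.Gen
import Cfsg.Agent.H493.CC.AmbD

/-!
# S4884, row oplus (cross characteristic)

* `rowReal_oplus_of` : `RowReal q (POmega F (quadFormPlus (n + 2) F))` from `QElt`.
-/

set_option autoImplicit false

namespace Cfsg.Agent.H478.CC

open Cfsg Cfsg.Agent.LieClassical Cfsg.Agent.LieClassical.OrthForms
open Cfsg.Agent.LieClassical.OrthCore Cfsg.Agent.LieClassical.OrthTrans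
open Cfsg.Agent.LieClassical.OrthSimple Cfsg.Agent.LieClassical.OrthFinite
open Cfsg.Agent.TitsThree.KSideO Cfsg.Agent.Nodes.WittInst Cfsg.Agent.Nodes.LeviDec Cfsg.Agent.Nodes.TypeD
open Cfsg.Agent.Nodes.WittRGD (Tor)
open Cfsg.Agent.H439.CC Cfsg.Agent.H706.PB

/-- **row oplus** from the `q`-elements -/
theorem rowReal_oplus_of {F : Type} [Field F] [Finite F] {n q : ℕ} [Fact q.Prime] (hq2 : q ≠ 2) (h2 : (2 : F) ≠ 0)
    (hG : Good (Qp n F)) (hQ : QElt (AdmQ (n := n) (F := F)) (E (Qp n F)).subtype q (n + 2)) :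
    RowReal q (POmega F (Qp n F)) := by
  obtain ⟨p, hp⟩ := CharP.exists F
  have hpp : Fact p.Prime := ⟨CharP.char_is_prime F p⟩
  have hp2 : p ≠ 2 := by
    rintro rfl
    exact h2 (CharP.cast_eq_zero F 2)
  have hfV : Finite ((Fin (n + 2) ⊕ Fin (n + 2) → F) ≃ₗ[F] (Fin (n + 2) ⊕ Fin (n + 2) → F)) :=
    Finite.of_injective (fun g : (Fin (n + 2) ⊕ Fin (n + 2) → F) ≃ₗ[F] (Fin (n + 2) ⊕ Fin (n + 2) → F) =>
      (g : (Fin (n + 2) ⊕ Fin (n + 2) → F) → (Fin (n + 2) ⊕ Fin (n + 2) → F))) DFunLike.coe_injective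
  have hfin : Finite (Cfsg.POmega F ⇑(Qp n F)) := Finite.of_surjective _ (toPOmega_surjective hG)
  have hW : Finite (M n).Group := finite_W (M n).toCoxeterSystem
  refine rowReal_of_rgd (p := p) hp2 (rgdD_model (wplus (n + 2) F) hG (amb_plus (n + 2)) (adm_plus (n + 2))
    (M n).toCoxeterSystem) (H493.CC.hgen_D (wplus (n + 2) F) hG (amb_plus (n + 2)) (adm_plus (n + 2)) _)
    (H493.CC.real_D (M n).toCoxeterSystem) (n + 2) (by omega) JD ?_ hq2 ?_ (flags_D hG (p := p) _) hQ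
  · exact H549.DB.wside_D_of _ (CoxeterMatrix.B (n + 2)).toCoxeterSystem (H215.WB.wside_B _)
  · rw [Fintype.card_bool]
    intro h
    exact hq2 ((Nat.prime_dvd_prime_iff_eq (Fact.out : q.Prime) Nat.prime_two).1 h)

/-- **the row oplus of `Rows`** from the `q`-elements -/
theorem row_oplus_of {q : ℕ} [Fact q.Prime] (hq2 : q ≠ 2)
    (hQ : ∀ (F : Type) [Field F] [Finite F] (n : ℕ), (q : F) ≠ 0 → (2 : F) ≠ 0 → 2 ≤ n → Good (Qp n F) →
      q ∣ Nat.card (POmega F (Qp n F)) → QElt (AdmQ (n := n) (F := F)) (E (Qp n F)).subtype q (n + 2)) :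
    RowForR q (fun X _ => ∃ (F : Type) (_ : Field F) (_ : Fintype F) (m : ℕ), (q : F) ≠ 0 ∧ (2 : F) ≠ 0 ∧
      4 ≤ m ∧ Nonempty (X ≃* POmega F (quadFormPlus m F))) := by
  rintro X _ _ _ hna hd ⟨F, _, _, m, hqF, h2, hm, ⟨e⟩⟩
  obtain ⟨n, rfl⟩ : ∃ n, m = n + 2 := ⟨m - 2, by omega⟩
  have hG : Good (Qp n F) := by
    apply good_of_finite (nondeg_plusForm (n + 2) F)
    rw [Module.finrank_fintype_fun_eq_card, Fintype.card_sum, Fintype.card_fin]
    omega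
  rw [← coe_plusForm] at e
  have hfin : Finite (POmega F (Qp n F)) := Finite.of_equiv X e.toEquiv
  refine RowReal.congr e (rowReal_oplus_of hq2 h2 hG (hQ F n hqF h2 (by omega) hG ?_))
  rwa [← Nat.card_congr e.toEquiv]

end Cfsg.Agent.H478.CC
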