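import Cfsg.Agent.H439.CC.Defs

/-!
# The count of fixed flags (S4884, blocks F-B and F-D)

`flags_of_orbits` : `Ĝ` acts on `V`; `σ K j` (`j : κ`) are standard chains of type `K`; the stabilizer of `σ K j` is the
preimage of `P K j`, every chain of type `K` is in the orbit of exactly one of the `σ K j`. Then `Flags Adm act φ N P`.
-/

set_option autoImplicit false

namespace Cfsg.Agent.H478.CC

open Cfsg.Agent.H439.CC
open scoped Classical

variable {F : Type*} [Field F] {V : Type*} [AddCommGroup V] [Module F V]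

/-- the chains of nonzero admissible subspaces with set of dimensions `K` -/
def Ch (Adm : Submodule F V → Prop) (K : Finset ℕ) (c : Finset (Submodule F V)) : Prop :=
  IsChain (· ≤ ·) (c : Set (Submodule F V)) ∧ (∀ U ∈ c, Adm U ∧ ⊥ < U) ∧ c.image (fun U : Submodule F V => Module.finrank F U) = K

/-- the image of a chain -/
noncomputable def im (g : V ≃ₗ[F] V) (c : Finset (Submodule F V)) : Finset (Submodule F V) :=
  c.image fun U => U.map (g : V →ₗ[F] V)

theorem mem_im {g : V ≃ₗ[F] V} {c : Finset (Submodule F V)} {U : Submodule F V} :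
    U ∈ im g c ↔ ∃ U' ∈ c, U'.map (g : V →ₗ[F] V) = U := Finset.mem_image

theorem map_mul' (g h : V ≃ₗ[F] V) (U : Submodule F V) :
    U.map ((g * h : V ≃ₗ[F] V) : V →ₗ[F] V) = (U.map (h : V →ₗ[F] V)).map (g : V →ₗ[F] V) :=
  Submodule.map_comp (h : V →ₗ[F] V) (g : V →ₗ[F] V) U

theorem map_one' (U : Submodule F V) : U.map ((1 : V ≃ₗ[F] V) : V →ₗ[F] V) = U := Submodule.map_id U

theorem im_mul (g h : V ≃ₗ[F] V) (c : Finset (Submodule F V)) : im (g * h) c = im g (im h c) := by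
  rw [im, im, im, Finset.image_image]
  exact Finset.image_congr fun U _ => map_mul' g h U

theorem im_one (c : Finset (Submodule F V)) : im (1 : V ≃ₗ[F] V) c = c := by
  rw [im]
  conv_rhs => rw [← Finset.image_id (s := c)]
  exact Finset.image_congr fun U _ => map_one' U

theorem map_eq_iff {g : V ≃ₗ[F] V} {U U' : Submodule F V} :
    U.map (g : V →ₗ[F] V) = U' ↔ U = U'.map ((g⁻¹ : V ≃ₗ[F] V) : V →ₗ[F] V) := by
  constructor
  · rintro rfl
    rw [← map_mul', inv_mul_cancel, map_one']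
  · rintro rfl
    rw [← map_mul', mul_inv_cancel, map_one']

theorem Ch.eq_of_finrank [Module.Finite F V] {Adm : Submodule F V → Prop} {K : Finset ℕ} {c : Finset (Submodule F V)}
    (hc : Ch Adm K c) {U U' : Submodule F V} (hU : U ∈ c) (hU' : U' ∈ c)
    (h : Module.finrank F U = Module.finrank F U') : U = U' := by
  rcases hc.1.total hU hU' with h1 | h1
  · exact Submodule.eq_of_le_of_finrank_eq h1 h
  · exact (Submodule.eq_of_le_of_finrank_eq h1 h.symm).symm

/-- a chain fixed as a set is fixed elementwise -/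
theorem Ch.fix [Module.Finite F V] {Adm : Submodule F V → Prop} {K : Finset ℕ} {c : Finset (Submodule F V)}
    (hc : Ch Adm K c) {g : V ≃ₗ[F] V} (hg : im g c = c) {U : Submodule F V} (hU : U ∈ c) :
    U.map (g : V →ₗ[F] V) = U :=
  hc.eq_of_finrank (hg ▸ mem_im.2 ⟨U, hU, rfl⟩) hU (LinearEquiv.finrank_map_eq g U)

theorem Ch.im {Adm : Submodule F V → Prop} {K : Finset ℕ} {c : Finset (Submodule F V)}
    (hc : Ch Adm K c) {g : V ≃ₗ[F] V} (hs : ∀ U, Adm U → Adm (U.map (g : V →ₗ[F] V))) : Ch Adm K (im g c) := by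
  refine ⟨?_, ?_, ?_⟩
  · rintro _ h1 _ h2 hne
    obtain ⟨U, hU, rfl⟩ := mem_im.1 (Finset.mem_coe.1 h1)
    obtain ⟨U', hU', rfl⟩ := mem_im.1 (Finset.mem_coe.1 h2)
    rcases hc.1.total hU hU' with h3 | h3
    · exact Or.inl (Submodule.map_mono h3)
    · exact Or.inr (Submodule.map_mono h3)
  · rintro _ h1
    obtain ⟨U, hU, rfl⟩ := mem_im.1 h1
    refine ⟨hs U (hc.2.1 U hU).1, bot_lt_iff_ne_bot.2 fun h2 => ?_⟩
    have h3 := (hc.2.1 U hU).2
    exact absurd ((Submodule.map_eq_bot_iff (e := g) (p := U)).1 h2) (bot_lt_iff_ne_bot.1 h3)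
  · rw [← hc.2.2, CC.im, Finset.image_image]
    exact Finset.image_congr fun U _ => LinearEquiv.finrank_map_eq g U

/-- the chains in `StP` -/
theorem fl_eq [Module.Finite F V] {Adm : Submodule F V → Prop} (h0 : Adm ⊥) (g : V ≃ₗ[F] V) (K : Finset ℕ) :
    fl (rkS Adm {g}) (botS h0 {g}) K =
      Nat.card {c : Finset (Submodule F V) // Ch Adm K c ∧ ∀ U ∈ c, U.map (g : V →ₗ[F] V) = U} := by
  have hr0 : rkS Adm {g} (botS h0 {g}) = 0 := finrank_bot F V
  have hle : ∀ U U' : StP Adm {g}, U ≤ U' ↔ U.1 ≤ U'.1 := fun U U' => Iff.rfl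
  have hlt : ∀ U : StP Adm {g}, botS h0 {g} < U ↔ ⊥ < U.1 := fun U => Iff.rfl
  have him : ∀ c : Finset (StP Adm {g}), c.image (fun U => rkS Adm {g} U - rkS Adm {g} (botS h0 {g})) =
      (c.image (fun U : StP Adm {g} => U.1)).image (fun U : Submodule F V => Module.finrank F U) := fun c => by
    rw [Finset.image_image]
    refine Finset.image_congr fun U _ => ?_
    show rkS Adm {g} U - rkS Adm {g} (botS h0 {g}) = Module.finrank F U.1
    rw [hr0, Nat.sub_zero]
    rfl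
  rw [fl]
  refine Nat.card_congr (Equiv.ofBijective (fun c => ⟨c.1.image (fun U : StP Adm {g} => U.1), ⟨?_, ?_, ?_⟩, ?_⟩)
    ⟨?_, ?_⟩)
  · rintro _ h1 _ h2 hne
    obtain ⟨U, hU, rfl⟩ := Finset.mem_image.1 (Finset.mem_coe.1 h1)
    obtain ⟨U', hU', rfl⟩ := Finset.mem_image.1 (Finset.mem_coe.1 h2)
    rcases c.2.1.total hU hU' with h3 | h3
    · exact Or.inl h3
    · exact Or.inr h3
  · rintro _ h1
    obtain ⟨U, hU, rfl⟩ := Finset.mem_image.1 h1
    exact ⟨U.2.1, c.2.2.1 U hU⟩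
  · rw [← him]
    exact c.2.2.2
  · rintro _ h1
    obtain ⟨U, hU, rfl⟩ := Finset.mem_image.1 h1
    exact U.2.2 g (Set.mem_singleton g)
  · intro c c' h
    exact Subtype.ext (Finset.image_injective Subtype.val_injective (congrArg Subtype.val h))
  · rintro ⟨c, hc, hf⟩
    have hp : ∀ U ∈ c, Adm U ∧ ∀ x ∈ ({g} : Set (V ≃ₗ[F] V)), U.map (x : V →ₗ[F] V) = U := fun U hU =>
      ⟨(hc.2.1 U hU).1, fun x hx => by rw [Set.mem_singleton_iff.1 hx]; exact hf U hU⟩
    obtain ⟨c₀, hc₀⟩ : ∃ c₀ : Finset (StP Adm {g}), ∀ U, U ∈ c₀ ↔ U.1 ∈ c :=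
      ⟨c.subtype (fun U => Adm U ∧ ∀ x ∈ ({g} : Set (V ≃ₗ[F] V)), U.map (x : V →ₗ[F] V) = U),
        fun U => Finset.mem_subtype⟩
    have h1 : c₀.image (fun U : StP Adm {g} => U.1) = c := by
      ext U
      rw [Finset.mem_image]
      constructor
      · rintro ⟨U', h2, rfl⟩
        exact (hc₀ U').1 h2
      · intro hU
        exact ⟨⟨U, hp U hU⟩, (hc₀ _).2 hU, rfl⟩
    refine ⟨⟨c₀, ?_, ?_, ?_⟩, Subtype.ext h1⟩
    · intro U hU U' hU' hne
      exact hc.1.total ((hc₀ U).1 hU) ((hc₀ U').1 hU')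
    · intro U hU
      exact (hlt U).2 (hc.2.1 U.1 ((hc₀ U).1 hU)).2
    · rw [him, h1]
      exact hc.2.2

variable {Gh S : Type*} [Group Gh] [Group S] {act : Gh →* (V ≃ₗ[F] V)} {φ : Gh →* S} {κ : Type} [Fintype κ]

/-- **the count**: fixed points on the cosets of the stabilizers are fixed chains -/
theorem sum_pf [Module.Finite F V] [Finite S] {Adm : Submodule F V → Prop} (h0 : Adm ⊥)
    (hs : ∀ (g : Gh) (U : Submodule F V), Adm U → Adm (U.map (act g : V →ₗ[F] V))) (hφ : Function.Surjective φ)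
    {K : Finset ℕ} {P : κ → Subgroup S} {σ : κ → Finset (Submodule F V)} (hσ : ∀ j, Ch Adm K (σ j))
    (hst : ∀ j g, φ g ∈ P j ↔ ∀ U ∈ σ j, U.map (act g : V →ₗ[F] V) = U)
    (htr : ∀ c, Ch Adm K c → ∃ g j, c = im (act g) (σ j))
    (hd : ∀ j j' g, σ j' = im (act g) (σ j) → j = j') (g : Gh) :
    ∑ j : κ, pf (P j) (φ g) = fl (rkS Adm {act g}) (botS h0 {act g}) K := by
  have hst' : ∀ j g, im (act g) (σ j) = σ j → φ g ∈ P j := fun j g h =>
    (hst j g).2 fun U hU => (hσ j).fix h hU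
  have hst2 : ∀ j g, φ g ∈ P j → im (act g) (σ j) = σ j := fun j g h => by
    rw [im]
    conv_rhs => rw [← Finset.image_id (s := σ j)]
    exact Finset.image_congr fun U hU => (hst j g).1 h U hU
  have hrep : ∀ (j : κ) (x : S ⧸ P j), ∃ h : Gh, x = QuotientGroup.mk (φ h) := fun j x => by
    obtain ⟨s, rfl⟩ := QuotientGroup.mk_surjective x
    obtain ⟨h, rfl⟩ := hφ s
    exact ⟨h, rfl⟩
  choose r hr using hrep
  have hmk : ∀ (j : κ) (a b : Gh), (QuotientGroup.mk (φ a) : S ⧸ P j) = QuotientGroup.mk (φ b) ↔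
      im (act a) (σ j) = im (act b) (σ j) := fun j a b => by
    rw [QuotientGroup.eq, ← map_inv, ← map_mul]
    constructor
    · intro h1
      have h2 := hst2 j _ h1
      rw [map_mul, map_inv, im_mul] at h2
      have h3 := congrArg (im (act a)) h2
      rw [← im_mul, ← im_mul, mul_inv_cancel, one_mul] at h3
      exact h3.symm
    · intro h1
      apply hst'
      rw [map_mul, im_mul, ← h1, ← im_mul, ← map_mul, inv_mul_cancel, map_one, im_one]
  rw [fl_eq]
  have hcard : ∑ j : κ, pf (P j) (φ g) = Nat.card (Σ j : κ, {x : S ⧸ P j // φ g • x = x}) := by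
    rw [Nat.card_sigma]
    rfl
  rw [hcard]
  refine Nat.card_congr (Equiv.ofBijective (fun y => ⟨im (act (r y.1 y.2.1)) (σ y.1), (hσ _).im (hs _), ?_⟩) ⟨?_, ?_⟩)
  · intro U hU
    refine ((hσ y.1).im (hs (r y.1 y.2.1))).fix ?_ hU
    rw [← im_mul, ← map_mul, ← hmk, map_mul]
    have h1 := y.2.2
    conv_rhs => rw [← hr y.1 y.2.1, ← h1, hr y.1 y.2.1]
    rfl
  · rintro ⟨j, x⟩ ⟨j', x'⟩ h1
    have h2 : im (act (r j x.1)) (σ j) = im (act (r j' x'.1)) (σ j') := congrArg Subtype.val h1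
    have h3 : j = j' := by
      apply hd j j' ((r j' x'.1)⁻¹ * r j x.1)
      rw [map_mul, im_mul, h2, ← im_mul, ← map_mul, inv_mul_cancel, map_one, im_one]
    subst h3
    have h4 : x = x' := by
      apply Subtype.ext
      rw [hr j x.1, hr j x'.1]
      exact (hmk j _ _).2 h2
    rw [h4]
  · rintro ⟨c, hc, hfix⟩
    obtain ⟨h, j, rfl⟩ := htr c hc
    have h1 : φ g • (QuotientGroup.mk (φ h) : S ⧸ P j) = QuotientGroup.mk (φ h) := by
      have h2 : (QuotientGroup.mk (φ (g * h)) : S ⧸ P j) = QuotientGroup.mk (φ h) := by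
        rw [hmk, map_mul, im_mul]
        rw [im]
        conv_rhs => rw [← Finset.image_id (s := im (act h) (σ j))]
        exact Finset.image_congr fun U hU => hfix U hU
      refine Eq.trans ?_ h2
      rw [map_mul]
      rfl
    refine ⟨⟨j, QuotientGroup.mk (φ h), h1⟩, Subtype.ext ?_⟩
    show im (act (r j (QuotientGroup.mk (φ h)))) (σ j) = im (act h) (σ j)
    rw [← hmk, ← hr]

/-- **`Flags` from orbits** -/
theorem flags_of_orbits [Module.Finite F V] [Finite S] {Adm : Submodule F V → Prop} {N : ℕ} (h0 : Adm ⊥)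
    (hdn : ∀ U U' : Submodule F V, U ≤ U' → Adm U' → Adm U)
    (hs : ∀ (g : Gh) (U : Submodule F V), Adm U → Adm (U.map (act g : V →ₗ[F] V))) (hφ : Function.Surjective φ)
    (hker : φ.ker ≤ Subgroup.center Gh) (P : Finset ℕ → κ → Subgroup S)
    (σ : Finset ℕ → κ → Finset (Submodule F V))
    (hσ : ∀ K ⊆ Finset.Icc 1 N, N ∈ K → ∀ j, Ch Adm K (σ K j))
    (hst : ∀ K ⊆ Finset.Icc 1 N, N ∈ K → ∀ j g, φ g ∈ P K j ↔ ∀ U ∈ σ K j, U.map (act g : V →ₗ[F] V) = U)
    (htr : ∀ K ⊆ Finset.Icc 1 N, N ∈ K → ∀ c, Ch Adm K c → ∃ g j, c = im (act g) (σ K j))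
    (hd : ∀ K ⊆ Finset.Icc 1 N, N ∈ K → ∀ j j' g, σ K j' = im (act g) (σ K j) → j = j') :
    Flags Adm act φ N P where
  bot := h0
  down := hdn
  stab := hs
  surj := hφ
  ker := hker
  fix g K hK hN := sum_pf h0 hs hφ (hσ K hK hN) (hst K hK hN) (htr K hK hN) (hd K hK hN) g

end Cfsg.Agent.H478.CC
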